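import Groth.Agent.H1CAlg.UnivInj
import Groth.Prelude.Def_W4stkadequatePure
import Mathlib.LinearAlgebra.DFinsupp

/-!
Pure exactness: pure injective and pure projective modules over a commutative ring.
-/

set_option autoImplicit false
universe u

open TensorProduct

namespace Groth.Agent.H16Derived.PureExt

variable {R : Type u} [CommRing R]

/-- `I` is pure injective. -/
def PInj (R : Type u) [CommRing R] (I : Type u) [AddCommGroup I] [Module R I] : Prop :=
  ∀ ⦃K L : Type u⦄ [AddCommGroup K] [Module R K] [AddCommGroup L] [Module R L] (f : K →ₗ[R] L),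
    CAlgX.UniversallyInjective R f → ∀ φ : K →ₗ[R] I, ∃ ψ : L →ₗ[R] I, ψ ∘ₗ f = φ

/-- `P` is pure projective. -/
def PProj (R : Type u) [CommRing R] (P : Type u) [AddCommGroup P] [Module R P] : Prop :=
  ∀ ⦃L T : Type u⦄ [AddCommGroup L] [Module R L] [AddCommGroup T] [Module R T] (g : L →ₗ[R] T),
    Function.Surjective g → CAlgX.UniversallyInjective R (LinearMap.ker g).subtype →
    ∀ φ : P →ₗ[R] T, ∃ ψ : P →ₗ[R] L, g ∘ₗ ψ = φ

/-- A character module is pure injective. -/
theorem pInj_characterModule (Q : Type u) [AddCommGroup Q] [Module R Q] :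
    PInj R (CharacterModule Q) := by
  intro K L _ _ _ _ f hf φ
  obtain ⟨c, hc⟩ := CharacterModule.dual_surjective_of_injective (f.rTensor Q) (hf Q)
    (CharacterModule.homEquiv φ)
  refine ⟨CharacterModule.homEquiv.symm c, ?_⟩
  apply CharacterModule.homEquiv.injective
  rw [← hc]
  refine DFunLike.ext _ _ fun z => ?_
  induction z with
  | zero => simp
  | tmul k q => rfl
  | add a b ha hb => simp only [map_add, ha, hb]

theorem universallyInjective_charEval (M : Type u) [AddCommGroup M] [Module R M] :
    CAlgX.UniversallyInjective R (PureExt.charEval R M) := by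
  intro Q _ _
  rw [injective_iff_map_eq_zero]
  intro z hz
  refine CharacterModule.eq_zero_of_character_apply fun c => ?_
  let φ' : Q →ₗ[R] CharacterModule M :=
    CharacterModule.curry (CharacterModule.dual (TensorProduct.comm R Q M).toLinearMap c)
  let C : CharacterModule (CharacterModule (CharacterModule M) ⊗[R] Q) :=
    CharacterModule.uncurry (CharacterModule.dual φ')
  have key : ∀ z, C ((PureExt.charEval R M).rTensor Q z) = c z := by
    intro z
    induction z with
    | zero => simp
    | tmul m q => rfl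
    | add a b ha hb => simp only [map_add, ha, hb]
  rw [← key, hz, map_zero]

/-- A retract of a pure injective module is pure injective. -/
theorem pInj_of_retract {I J : Type u} [AddCommGroup I] [Module R I] [AddCommGroup J] [Module R J]
    (hJ : PInj R J) (i : I →ₗ[R] J) (r : J →ₗ[R] I) (h : r ∘ₗ i = LinearMap.id) : PInj R I := by
  intro K L _ _ _ _ f hf φ
  obtain ⟨ψ, hψ⟩ := hJ f hf (i ∘ₗ φ)
  exact ⟨r ∘ₗ ψ, by rw [LinearMap.comp_assoc, hψ, ← LinearMap.comp_assoc, h, LinearMap.id_comp]⟩

theorem pInj_iff_charEval_splits (I : Type u) [AddCommGroup I] [Module R I] :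
    PInj R I ↔
      ∃ r : CharacterModule (CharacterModule I) →ₗ[R] I, r ∘ₗ PureExt.charEval R I = LinearMap.id :=
  ⟨fun h => h _ (universallyInjective_charEval I) LinearMap.id,
    fun ⟨r, hr⟩ => pInj_of_retract (pInj_characterModule _) _ r hr⟩

/-- In a universally exact sequence the image of the second map is pure. -/
theorem universallyInjective_range_subtype {L M N : Type u} [AddCommGroup L] [Module R L]
    [AddCommGroup M] [Module R M] [AddCommGroup N] [Module R N] (f : L →ₗ[R] M) (g : M →ₗ[R] N)
    (h : ∀ (Q : Type u) [AddCommGroup Q] [Module R Q], Function.Exact (f.rTensor Q) (g.rTensor Q)) :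
    CAlgX.UniversallyInjective R (LinearMap.range g).subtype := by
  have hgf : g.rangeRestrict ∘ₗ f = 0 := by
    ext l
    have := (h R).apply_apply_eq_zero (l ⊗ₜ 1)
    simpa using congrArg (TensorProduct.rid R N) this
  intro Q _ _
  rw [injective_iff_map_eq_zero]
  intro x hx
  obtain ⟨y, rfl⟩ := LinearMap.rTensor_surjective Q g.surjective_rangeRestrict x
  rw [← LinearMap.comp_apply, ← LinearMap.rTensor_comp, LinearMap.subtype_comp_codRestrict] at hx
  obtain ⟨z, rfl⟩ := (h Q y).mp hx
  rw [← LinearMap.comp_apply, ← LinearMap.rTensor_comp, hgf, LinearMap.rTensor_zero,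
    LinearMap.zero_apply]

/-- Finitely presented modules are pure projective. -/
theorem pProj_of_finitePresentation (Q : Type u) [AddCommGroup Q] [Module R Q]
    [Module.FinitePresentation R Q] : PProj R Q := by
  intro L T _ _ _ _ g hg hker φ
  let E := LinearMap.ker (g ∘ₗ LinearMap.fst R L Q - φ ∘ₗ LinearMap.snd R L Q)
  have hE : ∀ p : L × Q, p ∈ E ↔ g p.1 = φ p.2 := fun p => by simp [E, sub_eq_zero]
  let p : E →ₗ[R] Q := LinearMap.snd R L Q ∘ₗ E.subtype
  let i : LinearMap.ker g →ₗ[R] E :=
    LinearMap.codRestrict E (LinearMap.inl R L Q ∘ₗ (LinearMap.ker g).subtype) fun k => by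
      rw [hE]; simpa using k.2
  have hp : Function.Surjective p := fun q => by
    obtain ⟨l, hl⟩ := hg (φ q)
    exact ⟨⟨(l, q), (hE _).mpr hl⟩, rfl⟩
  have hip : Function.Exact i p := by
    rintro ⟨⟨l, q⟩, hlq⟩
    constructor
    · intro hq
      have hq' : q = 0 := hq
      subst hq'
      exact ⟨⟨l, by simpa using (hE _).mp hlq⟩, rfl⟩
    · rintro ⟨k, hk⟩
      rw [← hk]
      rfl
  have hi : CAlgX.UniversallyInjective R i := fun Q' _ _ => by
    refine Function.Injective.of_comp (f := (LinearMap.fst R L Q ∘ₗ E.subtype).rTensor Q') ?_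
    rw [← LinearMap.coe_comp, ← LinearMap.rTensor_comp]
    exact hker Q'
  obtain ⟨s, hs⟩ := H1CAlg.exists_section_of_universallyInjective i p hip hp hi
  refine ⟨LinearMap.fst R L Q ∘ₗ E.subtype ∘ₗ s, LinearMap.ext fun q => ?_⟩
  exact ((hE _).mp (s q).2).trans (congrArg φ (LinearMap.congr_fun hs q))

theorem pProj_dfinsupp {ι : Type u} (Q : ι → Type u) [∀ i, AddCommGroup (Q i)]
    [∀ i, Module R (Q i)] (h : ∀ i, PProj R (Q i)) : PProj R (Π₀ i, Q i) := by
  classical
  intro L T _ _ _ _ g hg hker φ
  choose ψ hψ using fun i => h i g hg hker (φ ∘ₗ DFinsupp.lsingle i)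
  refine ⟨DFinsupp.lsum ℕ ψ, DFinsupp.lhom_ext' fun i => ?_⟩
  ext x
  simpa using LinearMap.congr_fun (hψ i) x

theorem pProj_of_retract {P P' : Type u} [AddCommGroup P] [Module R P] [AddCommGroup P']
    [Module R P'] (hP' : PProj R P') (s : P →ₗ[R] P') (r : P' →ₗ[R] P)
    (h : r ∘ₗ s = LinearMap.id) : PProj R P := by
  intro L T _ _ _ _ g hg hker φ
  obtain ⟨ψ, hψ⟩ := hP' g hg hker (φ ∘ₗ r)
  exact ⟨ψ ∘ₗ s, by rw [← LinearMap.comp_assoc, hψ, LinearMap.comp_assoc, h, LinearMap.comp_id]⟩

section Cover

variable (R) (M : Type u) [AddCommGroup M] [Module R M]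

/-- Index type of the pure cover. -/
def CoverIndex : Type u :=
  Σ (n : ℕ) (m : ℕ) (a : Fin m → Fin n → R),
    (((Fin n → R) ⧸ Submodule.span R (Set.range a)) →ₗ[R] M)

/-- The finitely presented modules of the pure cover. -/
def CoverObj (i : CoverIndex R M) : Type u :=
  (Fin i.1 → R) ⧸ Submodule.span R (Set.range i.2.2.1)

noncomputable instance coverObj_addCommGroup (i : CoverIndex R M) : AddCommGroup (CoverObj R M i) :=
  inferInstanceAs (AddCommGroup ((Fin i.1 → R) ⧸ Submodule.span R (Set.range i.2.2.1)))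

noncomputable instance coverObj_module (i : CoverIndex R M) : Module R (CoverObj R M i) :=
  inferInstanceAs (Module R ((Fin i.1 → R) ⧸ Submodule.span R (Set.range i.2.2.1)))

instance coverObj_fp (i : CoverIndex R M) : Module.FinitePresentation R (CoverObj R M i) :=
  show Module.FinitePresentation R ((Fin i.1 → R) ⧸ Submodule.span R (Set.range i.2.2.1)) from
  Module.finitePresentation_of_surjective _ (Submodule.mkQ_surjective _) (by
    rw [Submodule.ker_mkQ]; exact Submodule.fg_span (Set.finite_range _))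

/-- The quotient map to a piece of the pure cover. -/
noncomputable def coverMk (i : CoverIndex R M) : (Fin i.1 → R) →ₗ[R] CoverObj R M i :=
  (Submodule.span R (Set.range i.2.2.1)).mkQ

theorem coverMk_rel (i : CoverIndex R M) (k : Fin i.2.1) : coverMk R M i (i.2.2.1 k) = 0 :=
  (Submodule.Quotient.mk_eq_zero _).mpr (Submodule.subset_span ⟨k, rfl⟩)

/-- The map on a piece of the pure cover. -/
noncomputable def coverLift (i : CoverIndex R M) : CoverObj R M i →ₗ[R] M := i.2.2.2

theorem coverLift_mk (i : CoverIndex R M) (v : Fin i.1 → R) :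
    coverLift R M i (coverMk R M i v) = i.2.2.2 (Submodule.Quotient.mk v) := rfl

/-- The map of the pure cover. -/
noncomputable def coverMap : (Π₀ i : CoverIndex R M, CoverObj R M i) →ₗ[R] M :=
  haveI := Classical.decEq (CoverIndex R M)
  DFinsupp.lsum ℕ (coverLift R M)

theorem coverMap_single [DecidableEq (CoverIndex R M)] (i : CoverIndex R M) (z : CoverObj R M i) :
    coverMap R M (DFinsupp.single i z) = coverLift R M i z := by
  have e : Classical.decEq (CoverIndex R M) = ‹DecidableEq (CoverIndex R M)› := Subsingleton.elim _ _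
  subst e
  simp [coverMap]

theorem coverMap_surjective : Function.Surjective (coverMap R M) := by
  classical
  intro m
  let a : Fin 0 → Fin 1 → R := Fin.elim0
  let S := Submodule.span R (Set.range a)
  let h : ((Fin 1 → R) ⧸ S) →ₗ[R] M :=
    S.liftQ (LinearMap.toSpanSingleton R M m ∘ₗ LinearMap.proj 0) (by
      rw [Submodule.span_le]; rintro _ ⟨i, rfl⟩; exact i.elim0)
  let i₀ : CoverIndex R M := ⟨1, 0, a, h⟩
  let v : Fin 1 → R := Pi.single 0 1
  refine ⟨DFinsupp.single i₀ (coverMk R M i₀ v), ?_⟩
  rw [coverMap_single, coverLift_mk]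
  show (LinearMap.toSpanSingleton R M m ∘ₗ LinearMap.proj 0) v = m
  simp [v]

theorem coverMap_pure : CAlgX.UniversallyInjective R (LinearMap.ker (coverMap R M)).subtype := by
  classical
  refine H1CAlg.universallyInjective_of_equational fun n m x y a h => ?_
  let e := Fintype.linearCombination R fun j => coverMap R M (y j)
  let S := Submodule.span R (Set.range a)
  have hS : S ≤ LinearMap.ker e := by
    rw [Submodule.span_le]
    rintro _ ⟨i, rfl⟩
    have := (x i).2
    rw [LinearMap.mem_ker, show ((x i : Π₀ i : CoverIndex R M, CoverObj R M i)) = ∑ j, a i j • y j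
      from h i, map_sum] at this
    simpa [e, Fintype.linearCombination_apply] using this
  let i₀ : CoverIndex R M := ⟨m, n, a, S.liftQ e hS⟩
  let y' : (Fin m → R) →ₗ[R] (Π₀ i : CoverIndex R M, CoverObj R M i) :=
    DFinsupp.lsingle i₀ ∘ₗ coverMk R M i₀
  have hy : ∀ j, coverMap R M (y' (Pi.single j 1)) = coverMap R M (y j) := fun j => by
    refine (coverMap_single R M i₀ _).trans ?_
    rw [coverLift_mk]
    show e (Pi.single j 1) = _
    simp [e]
  refine ⟨fun j => ⟨y j - y' (Pi.single j 1), LinearMap.mem_ker.mpr (by rw [map_sub, hy, sub_self])⟩,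
    fun i => Subtype.ext ?_⟩
  have h0 : y' (a i) = 0 :=
    (congrArg (DFinsupp.lsingle (R := R) i₀) (coverMk_rel R M i₀ i)).trans (map_zero _)
  have h1 : ∑ j, a i j • y' (Pi.single j 1) = y' (a i) := by
    simp only [← map_smul, ← map_sum]
    congr 1
    exact (pi_eq_sum_univ' (a i)).symm
  simp only [Submodule.coe_sum, Submodule.coe_smul, smul_sub, Finset.sum_sub_distrib, h1, h0, sub_zero]
  exact h i

end Cover

theorem pProj_iff (P : Type u) [AddCommGroup P] [Module R P] :
    PProj R P ↔
      ∃ (ι : Type u) (Q : ι → Type u) (_ : ∀ i, AddCommGroup (Q i)) (_ : ∀ i, Module R (Q i)),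
      (∀ i, Module.FinitePresentation R (Q i)) ∧
      ∃ (s : P →ₗ[R] (Π₀ i, Q i)) (r : (Π₀ i, Q i) →ₗ[R] P), r ∘ₗ s = LinearMap.id := by
  constructor
  · intro h
    obtain ⟨s, hs⟩ := h _ (coverMap_surjective R P) (coverMap_pure R P) LinearMap.id
    exact ⟨_, CoverObj R P, inferInstance, inferInstance, inferInstance, s, _, hs⟩
  · rintro ⟨ι, Q, _, _, hQ, s, r, hrs⟩
    exact pProj_of_retract (pProj_dfinsupp Q fun i => pProj_of_finitePresentation (Q i)) s r hrs

end Groth.Agent.H16Derived.PureExt
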