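import Groth.Agent.H16Derived.PureExt.Basic
import Mathlib.Algebra.Category.ModuleCat.Monoidal.Basic
import Mathlib.Algebra.Category.ModuleCat.Abelian
import Mathlib.Algebra.Homology.ShortComplex.ModuleCat
import Mathlib.Algebra.Homology.Homotopy
import Mathlib.Algebra.Homology.QuasiIso
import Mathlib.Algebra.Homology.Single
import Mathlib.CategoryTheory.Monoidal.Preadditive

/-!
Pure projective and pure injective resolutions, comparison maps and homotopies.
-/

set_option autoImplicit false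
universe u v

open CategoryTheory Limits

namespace Groth.Agent.H16Derived.PureExt

section Abelian

variable {C : Type*} [Category C] [Abelian C]

theorem chain_quasiIso_iff {K L : ChainComplex C ℕ} (π : K ⟶ L)
    (hL : ∀ n, IsZero (L.X (n + 1))) :
    QuasiIso π ↔ (∃ w, (ShortComplex.mk (K.d 1 0) (π.f 0) w).Exact ∧ Epi (π.f 0)) ∧
      ∀ n, (ShortComplex.mk (K.d (n + 2) (n + 1)) (K.d (n + 1) n) (K.d_comp_d _ _ _)).Exact := by
  have hd : L.d 1 0 = 0 := (hL 0).eq_of_src _ _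
  have h0 : QuasiIsoAt π 0 ↔ ∃ w, (ShortComplex.mk (K.d 1 0) (π.f 0) w).Exact ∧ Epi (π.f 0) := by
    have e := ShortComplex.quasiIso_iff_of_zeros'
      ((HomologicalComplex.shortComplexFunctor' C (ComplexShape.down ℕ) 1 0 0).map π)
      (K.shape 0 0 (by simp)) hd (L.shape 0 0 (by simp))
    rw [ChainComplex.quasiIsoAt₀_iff, e]
    exact ⟨fun h => ⟨_, h⟩, fun ⟨_, h⟩ => h⟩
  have hs : ∀ n, QuasiIsoAt π (n + 1) ↔
      (ShortComplex.mk (K.d (n + 2) (n + 1)) (K.d (n + 1) n) (K.d_comp_d _ _ _)).Exact := fun n => by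
    rw [quasiIsoAt_iff_exactAt' π (n + 1) (HomologicalComplex.ExactAt.of_isZero (hL n)),
      K.exactAt_iff' (n + 2) (n + 1) n (by simp) (by simp)]
    rfl
  constructor
  · intro h
    exact ⟨h0.mp inferInstance, fun n => (hs n).mp inferInstance⟩
  · rintro ⟨a, b⟩
    exact ⟨fun i => match i with | 0 => h0.mpr a | n + 1 => (hs n).mpr (b n)⟩

theorem cochain_quasiIso_iff {K L : CochainComplex C ℕ} (η : L ⟶ K)
    (hL : ∀ n, IsZero (L.X (n + 1))) :
    QuasiIso η ↔ (∃ w, (ShortComplex.mk (η.f 0) (K.d 0 1) w).Exact ∧ Mono (η.f 0)) ∧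
      ∀ n, (ShortComplex.mk (K.d n (n + 1)) (K.d (n + 1) (n + 2)) (K.d_comp_d _ _ _)).Exact := by
  have hd : L.d 0 1 = 0 := (hL 0).eq_of_tgt _ _
  have h0 : QuasiIsoAt η 0 ↔ ∃ w, (ShortComplex.mk (η.f 0) (K.d 0 1) w).Exact ∧ Mono (η.f 0) := by
    have e := ShortComplex.quasiIso_iff_of_zeros
      ((HomologicalComplex.shortComplexFunctor' C (ComplexShape.up ℕ) 0 0 1).map η)
      (L.shape 0 0 (by simp)) hd (K.shape 0 0 (by simp))
    rw [CochainComplex.quasiIsoAt₀_iff, e]
    exact ⟨fun h => ⟨_, h⟩, fun ⟨_, h⟩ => h⟩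
  have hs : ∀ n, QuasiIsoAt η (n + 1) ↔
      (ShortComplex.mk (K.d n (n + 1)) (K.d (n + 1) (n + 2)) (K.d_comp_d _ _ _)).Exact := fun n => by
    rw [quasiIsoAt_iff_exactAt η (n + 1) (HomologicalComplex.ExactAt.of_isZero (hL n)),
      K.exactAt_iff' n (n + 1) (n + 2) (by simp) (by simp)]
    rfl
  constructor
  · intro h
    exact ⟨h0.mp inferInstance, fun n => (hs n).mp inferInstance⟩
  · rintro ⟨a, b⟩
    exact ⟨fun i => match i with | 0 => h0.mpr a | n + 1 => (hs n).mpr (b n)⟩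

end Abelian

variable {R : Type u} [CommRing R]

/-- The augmented chain complex `P → M` is universally exact. -/
def UExactChain (P : ChainComplex (ModuleCat.{u} R) ℕ) {M : ModuleCat.{u} R} (π₀ : P.X 0 →ₗ[R] M) :
    Prop :=
  ∀ (Q : Type u) [AddCommGroup Q] [Module R Q],
    Function.Exact ((P.d 1 0).hom.rTensor Q) (π₀.rTensor Q) ∧ Function.Surjective (π₀.rTensor Q) ∧
      ∀ n, Function.Exact ((P.d (n + 2) (n + 1)).hom.rTensor Q) ((P.d (n + 1) n).hom.rTensor Q)

/-- The coaugmented cochain complex `M → I` is universally exact. -/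
def UExactCochain (I : CochainComplex (ModuleCat.{u} R) ℕ) {M : ModuleCat.{u} R}
    (η₀ : M →ₗ[R] I.X 0) : Prop :=
  ∀ (Q : Type u) [AddCommGroup Q] [Module R Q],
    Function.Exact (η₀.rTensor Q) ((I.d 0 1).hom.rTensor Q) ∧ Function.Injective (η₀.rTensor Q) ∧
      ∀ n, Function.Exact ((I.d n (n + 1)).hom.rTensor Q) ((I.d (n + 1) (n + 2)).hom.rTensor Q)

theorem exact_mk_iff {A B D : ModuleCat.{u} R} (f : A ⟶ B) (g : B ⟶ D) (w : f ≫ g = 0) :
    (ShortComplex.mk f g w).Exact ↔ Function.Exact f.hom g.hom :=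
  ShortComplex.ShortExact.moduleCat_exact_iff_function_exact _

theorem quasiIso_tensor_chain_iff (P : ChainComplex (ModuleCat.{u} R) ℕ) {M : ModuleCat.{u} R}
    (π : P ⟶ (ChainComplex.single₀ (ModuleCat.{u} R)).obj M) :
    (∀ T : ModuleCat.{u} R, QuasiIso
      (((MonoidalCategory.tensorRight T).mapHomologicalComplex (ComplexShape.down ℕ)).map π)) ↔
    UExactChain P (M := M) (π.f 0).hom := by
  have hz : ∀ (T : ModuleCat.{u} R) (n : ℕ),
      IsZero ((((MonoidalCategory.tensorRight T).mapHomologicalComplex (ComplexShape.down ℕ)).obj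
        ((ChainComplex.single₀ (ModuleCat.{u} R)).obj M)).X (n + 1)) := fun T n =>
    (MonoidalCategory.tensorRight T).map_isZero
      (HomologicalComplex.isZero_single_obj_X _ _ _ _ (Nat.succ_ne_zero n))
  constructor
  · intro h Q _ _
    obtain ⟨⟨w, he, hs⟩, hn⟩ := (chain_quasiIso_iff _ (hz (ModuleCat.of R Q))).mp (h (ModuleCat.of R Q))
    exact ⟨(exact_mk_iff _ _ _).mp he, (ModuleCat.epi_iff_surjective _).mp hs,
      fun n => (exact_mk_iff _ _ _).mp (hn n)⟩
  · intro h T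
    obtain ⟨he, hs, hn⟩ := h T
    have w : (P.d 1 0) ≫ π.f 0 = 0 := by rw [← π.comm 1 0, HomologicalComplex.single_obj_d, comp_zero]
    refine (chain_quasiIso_iff _ (hz T)).mpr ⟨⟨?_, (exact_mk_iff _ _ _).mpr he,
      (ModuleCat.epi_iff_surjective _).mpr hs⟩, fun n => (exact_mk_iff _ _ _).mpr (hn n)⟩
    exact ((MonoidalCategory.tensorRight T).map_comp _ _).symm.trans (by rw [w]; exact (MonoidalCategory.tensorRight T).map_zero _ _)

theorem quasiIso_tensor_cochain_iff (I : CochainComplex (ModuleCat.{u} R) ℕ) {M : ModuleCat.{u} R}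
    (η : (CochainComplex.single₀ (ModuleCat.{u} R)).obj M ⟶ I) :
    (∀ T : ModuleCat.{u} R, QuasiIso
      (((MonoidalCategory.tensorRight T).mapHomologicalComplex (ComplexShape.up ℕ)).map η)) ↔
    UExactCochain I (M := M) (η.f 0).hom := by
  have hz : ∀ (T : ModuleCat.{u} R) (n : ℕ),
      IsZero ((((MonoidalCategory.tensorRight T).mapHomologicalComplex (ComplexShape.up ℕ)).obj
        ((CochainComplex.single₀ (ModuleCat.{u} R)).obj M)).X (n + 1)) := fun T n =>
    (MonoidalCategory.tensorRight T).map_isZero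
      (HomologicalComplex.isZero_single_obj_X _ _ _ _ (Nat.succ_ne_zero n))
  constructor
  · intro h Q _ _
    obtain ⟨⟨w, he, hs⟩, hn⟩ :=
      (cochain_quasiIso_iff _ (hz (ModuleCat.of R Q))).mp (h (ModuleCat.of R Q))
    exact ⟨(exact_mk_iff _ _ _).mp he, (ModuleCat.mono_iff_injective _).mp hs,
      fun n => (exact_mk_iff _ _ _).mp (hn n)⟩
  · intro h T
    obtain ⟨he, hs, hn⟩ := h T
    have w : η.f 0 ≫ I.d 0 1 = 0 := by rw [η.comm 0 1, HomologicalComplex.single_obj_d, zero_comp]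
    refine (cochain_quasiIso_iff _ (hz T)).mpr ⟨⟨?_, (exact_mk_iff _ _ _).mpr he,
      (ModuleCat.mono_iff_injective _).mpr hs⟩, fun n => (exact_mk_iff _ _ _).mpr (hn n)⟩
    exact ((MonoidalCategory.tensorRight T).map_comp _ _).symm.trans (by rw [w]; exact (MonoidalCategory.tensorRight T).map_zero _ _)

theorem exact_of_rTensor {A B D : Type u} [AddCommGroup A] [Module R A] [AddCommGroup B] [Module R B]
    [AddCommGroup D] [Module R D] (f : A →ₗ[R] B) (g : B →ₗ[R] D)
    (h : Function.Exact (f.rTensor R) (g.rTensor R)) : Function.Exact f g :=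
  (Function.Exact.iff_of_ladder_linearEquiv (e₁ := TensorProduct.rid R A)
    (e₂ := TensorProduct.rid R B) (e₃ := TensorProduct.rid R D)
    (TensorProduct.ext' fun a r => by simp) (TensorProduct.ext' fun a r => by simp)).mpr h

section Lift

variable {X A B : Type u} [AddCommGroup X] [Module R X] [AddCommGroup A] [Module R A]
  [AddCommGroup B] [Module R B]

theorem PProj.lift (hX : PProj R X) (f : A →ₗ[R] B)
    (hf : CAlgX.UniversallyInjective R (LinearMap.ker f).subtype) (φ : X →ₗ[R] B)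
    (hφ : LinearMap.range φ ≤ LinearMap.range f) : ∃ ψ : X →ₗ[R] A, f ∘ₗ ψ = φ := by
  obtain ⟨ψ, hψ⟩ := hX f.rangeRestrict f.surjective_rangeRestrict
    (by rwa [LinearMap.ker_rangeRestrict])
    (φ.codRestrict (LinearMap.range f) fun x => hφ (LinearMap.mem_range_self φ x))
  refine ⟨ψ, ?_⟩
  have := congrArg ((LinearMap.range f).subtype ∘ₗ ·) hψ
  exact this

theorem PInj.extend (hX : PInj R X) (f : A →ₗ[R] B)
    (hf : CAlgX.UniversallyInjective R (LinearMap.range f).subtype) (φ : A →ₗ[R] X)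
    (hφ : LinearMap.ker f ≤ LinearMap.ker φ) : ∃ ψ : B →ₗ[R] X, ψ ∘ₗ f = φ := by
  obtain ⟨ψ, hψ⟩ := hX _ hf ((LinearMap.ker f).liftQ φ hφ ∘ₗ f.quotKerEquivRange.symm.toLinearMap)
  refine ⟨ψ, LinearMap.ext fun a => ?_⟩
  have := LinearMap.congr_fun hψ ⟨f a, LinearMap.mem_range_self f a⟩
  simpa [LinearMap.quotKerEquivRange_symm_apply_image] using this

end Lift

section Chain

variable {P : ChainComplex (ModuleCat.{u} R) ℕ} {M : ModuleCat.{u} R} {π₀ : P.X 0 →ₗ[R] M}

theorem UExactChain.lift_aug (h : UExactChain P π₀) {X : ModuleCat.{u} R} (hX : PProj R X)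
    (φ : X ⟶ M) : ∃ ψ : X ⟶ P.X 0, ψ ≫ ModuleCat.ofHom π₀ = φ := by
  have e := exact_of_rTensor _ _ (h R).1
  have hnat : π₀ ∘ₗ (TensorProduct.rid R _).toLinearMap =
      (TensorProduct.rid R M).toLinearMap ∘ₗ π₀.rTensor R := TensorProduct.ext' fun a r => by simp
  have hs : Function.Surjective π₀ := fun m => by
    obtain ⟨z, hz⟩ := (h R).2.1 ((TensorProduct.rid R M).symm m)
    refine ⟨TensorProduct.rid R _ z, (LinearMap.congr_fun hnat z).trans ?_⟩
    simp only [LinearMap.comp_apply, LinearEquiv.coe_coe, hz, LinearEquiv.apply_symm_apply]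
  obtain ⟨ψ, hψ⟩ := hX π₀ hs (by
    rw [e.linearMap_ker_eq]
    exact universallyInjective_range_subtype _ _ fun Q _ _ => (h Q).2.2 0) φ.hom
  exact ⟨ModuleCat.ofHom ψ, ModuleCat.hom_ext hψ⟩

theorem UExactChain.lift_zero (h : UExactChain P π₀) {X : ModuleCat.{u} R} (hX : PProj R X)
    (φ : X ⟶ P.X 0) (w : φ ≫ ModuleCat.ofHom π₀ = 0) : ∃ ψ : X ⟶ P.X 1, ψ ≫ P.d 1 0 = φ := by
  have e := exact_of_rTensor _ _ (h R).1
  have e' := exact_of_rTensor _ _ ((h R).2.2 0)
  obtain ⟨ψ, hψ⟩ := hX.lift (P.d 1 0).hom (by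
    rw [e'.linearMap_ker_eq]
    exact universallyInjective_range_subtype _ _ fun Q _ _ => (h Q).2.2 1) φ.hom (by
    rw [← e.linearMap_ker_eq]
    rintro _ ⟨x, rfl⟩
    exact ConcreteCategory.congr_hom w x)
  exact ⟨ModuleCat.ofHom ψ, ModuleCat.hom_ext hψ⟩

theorem UExactChain.lift_succ (h : UExactChain P π₀) {X : ModuleCat.{u} R} (hX : PProj R X) (n : ℕ)
    (φ : X ⟶ P.X (n + 1)) (w : φ ≫ P.d (n + 1) n = 0) :
    ∃ ψ : X ⟶ P.X (n + 2), ψ ≫ P.d (n + 2) (n + 1) = φ := by
  have e := exact_of_rTensor _ _ ((h R).2.2 n)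
  have e' := exact_of_rTensor _ _ ((h R).2.2 (n + 1))
  obtain ⟨ψ, hψ⟩ := hX.lift (P.d (n + 2) (n + 1)).hom (by
    rw [e'.linearMap_ker_eq]
    exact universallyInjective_range_subtype _ _ fun Q _ _ => (h Q).2.2 (n + 2)) φ.hom (by
    rw [← e.linearMap_ker_eq]
    rintro _ ⟨x, rfl⟩
    exact ConcreteCategory.congr_hom w x)
  exact ⟨ModuleCat.ofHom ψ, ModuleCat.hom_ext hψ⟩

end Chain

section Cochain

variable {I : CochainComplex (ModuleCat.{u} R) ℕ} {M : ModuleCat.{u} R} {η₀ : M →ₗ[R] I.X 0}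

theorem UExactCochain.extend_aug (h : UExactCochain I η₀) {X : ModuleCat.{u} R} (hX : PInj R X)
    (φ : M ⟶ X) : ∃ ψ : I.X 0 ⟶ X, ModuleCat.ofHom η₀ ≫ ψ = φ := by
  obtain ⟨ψ, hψ⟩ := hX η₀ (fun Q _ _ => (h Q).2.1) φ.hom
  exact ⟨ModuleCat.ofHom ψ, ModuleCat.hom_ext hψ⟩

theorem UExactCochain.extend_zero (h : UExactCochain I η₀) {X : ModuleCat.{u} R} (hX : PInj R X)
    (φ : I.X 0 ⟶ X) (w : ModuleCat.ofHom η₀ ≫ φ = 0) : ∃ ψ : I.X 1 ⟶ X, I.d 0 1 ≫ ψ = φ := by
  have e := exact_of_rTensor _ _ (h R).1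
  obtain ⟨ψ, hψ⟩ := hX.extend (I.d 0 1).hom
    (universallyInjective_range_subtype _ _ fun Q _ _ => (h Q).1) φ.hom (by
    rw [e.linearMap_ker_eq]
    rintro _ ⟨x, rfl⟩
    exact ConcreteCategory.congr_hom w x)
  exact ⟨ModuleCat.ofHom ψ, ModuleCat.hom_ext hψ⟩

theorem UExactCochain.extend_succ (h : UExactCochain I η₀) {X : ModuleCat.{u} R} (hX : PInj R X)
    (n : ℕ) (φ : I.X (n + 1) ⟶ X) (w : I.d n (n + 1) ≫ φ = 0) :
    ∃ ψ : I.X (n + 2) ⟶ X, I.d (n + 1) (n + 2) ≫ ψ = φ := by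
  have e := exact_of_rTensor _ _ ((h R).2.2 n)
  obtain ⟨ψ, hψ⟩ := hX.extend (I.d (n + 1) (n + 2)).hom
    (universallyInjective_range_subtype _ _ fun Q _ _ => (h Q).2.2 n) φ.hom (by
    rw [e.linearMap_ker_eq]
    rintro _ ⟨x, rfl⟩
    exact ConcreteCategory.congr_hom w x)
  exact ⟨ModuleCat.ofHom ψ, ModuleCat.hom_ext hψ⟩

end Cochain

theorem exists_chainMap {M N : ModuleCat.{u} R} (f : M ⟶ N)
    (P N' : ChainComplex (ModuleCat.{u} R) ℕ)
    (π : P ⟶ (ChainComplex.single₀ (ModuleCat.{u} R)).obj M)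
    (ε : N' ⟶ (ChainComplex.single₀ (ModuleCat.{u} R)).obj N)
    (hP : ∀ n, PProj R (P.X n)) (h : UExactChain N' (M := N) (ε.f 0).hom) :
    ∃ φ : P ⟶ N', φ ≫ ε = π ≫ (ChainComplex.single₀ (ModuleCat.{u} R)).map f := by
  choose zero hzero using h.lift_aug (hP 0) (π.f 0 ≫ f)
  have hπ : P.d 1 0 ≫ π.f 0 = 0 := by
    rw [← π.comm 1 0, HomologicalComplex.single_obj_d, comp_zero]
  choose one hone using h.lift_zero (hP 1) (P.d 1 0 ≫ zero) (by
    rw [Category.assoc, hzero, ← Category.assoc, hπ, zero_comp])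
  have step : ∀ (n : ℕ) (p : Σ' (f : P.X n ⟶ N'.X n) (f' : P.X (n + 1) ⟶ N'.X (n + 1)),
      f' ≫ N'.d (n + 1) n = P.d (n + 1) n ≫ f),
      ∃ f'', f'' ≫ N'.d (n + 2) (n + 1) = P.d (n + 2) (n + 1) ≫ p.2.1 := fun n p =>
    h.lift_succ (hP (n + 2)) n _ (by
      rw [Category.assoc, p.2.2, ← Category.assoc, P.d_comp_d, zero_comp])
  refine ⟨ChainComplex.mkHom P N' zero one hone fun n p =>
    ⟨(step n p).choose, (step n p).choose_spec⟩, ?_⟩
  refine HomologicalComplex.to_single_hom_ext ?_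
  rw [HomologicalComplex.comp_f, HomologicalComplex.comp_f, ChainComplex.mkHom_f_0,
    ChainComplex.single₀_map_f_zero]
  exact hzero

theorem exists_homotopy {M N : ModuleCat.{u} R} (f : M ⟶ N)
    (P N' : ChainComplex (ModuleCat.{u} R) ℕ)
    (π : P ⟶ (ChainComplex.single₀ (ModuleCat.{u} R)).obj M)
    (ε : N' ⟶ (ChainComplex.single₀ (ModuleCat.{u} R)).obj N)
    (hP : ∀ n, PProj R (P.X n)) (h : UExactChain N' (M := N) (ε.f 0).hom)
    (α β : P ⟶ N') (hα : α ≫ ε = π ≫ (ChainComplex.single₀ (ModuleCat.{u} R)).map f)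
    (hβ : β ≫ ε = π ≫ (ChainComplex.single₀ (ModuleCat.{u} R)).map f) :
    Nonempty (Homotopy α β) := by
  let e := α - β
  have he : e ≫ ε = 0 := by rw [Preadditive.sub_comp, hα, hβ, sub_self]
  have he0 : e.f 0 ≫ ε.f 0 = 0 := by
    rw [← HomologicalComplex.comp_f, he, HomologicalComplex.zero_f]
  choose zero hzero using h.lift_zero (hP 0) (e.f 0) he0
  choose one hone using h.lift_succ (hP 1) 0 (e.f 1 - P.d 1 0 ≫ zero) (by
    rw [Preadditive.sub_comp, Category.assoc, hzero, e.comm 1 0, sub_self])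
  have step : ∀ (n : ℕ) (p : Σ' (f : P.X n ⟶ N'.X (n + 1)) (f' : P.X (n + 1) ⟶ N'.X (n + 2)),
      e.f (n + 1) = P.d (n + 1) n ≫ f + f' ≫ N'.d (n + 2) (n + 1)),
      ∃ f'', f'' ≫ N'.d (n + 3) (n + 2) = e.f (n + 2) - P.d (n + 2) (n + 1) ≫ p.2.1 := fun n p =>
    h.lift_succ (hP (n + 2)) (n + 1) _ (by
      obtain ⟨f₀, f₁, hp⟩ := p
      dsimp only
      rw [Preadditive.sub_comp, e.comm, hp, Preadditive.comp_add, ← Category.assoc, P.d_comp_d,
        zero_comp, zero_add, Category.assoc, sub_self])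
  exact ⟨Homotopy.equivSubZero.symm (Homotopy.mkInductive e zero hzero.symm one
    (by rw [hone, add_sub_cancel]) fun n p =>
      ⟨(step n p).choose, by rw [(step n p).choose_spec, add_sub_cancel]⟩)⟩

theorem exists_cochainMap {M N : ModuleCat.{u} R} (f : M ⟶ N)
    (M' I : CochainComplex (ModuleCat.{u} R) ℕ)
    (η : (CochainComplex.single₀ (ModuleCat.{u} R)).obj M ⟶ M')
    (ε : (CochainComplex.single₀ (ModuleCat.{u} R)).obj N ⟶ I)
    (h : UExactCochain M' (M := M) (η.f 0).hom) (hI : ∀ n, PInj R (I.X n)) :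
    ∃ φ : M' ⟶ I, η ≫ φ = (CochainComplex.single₀ (ModuleCat.{u} R)).map f ≫ ε := by
  choose zero hzero using h.extend_aug (hI 0) (f ≫ ε.f 0)
  have hε : ε.f 0 ≫ I.d 0 1 = 0 := by
    rw [ε.comm 0 1, HomologicalComplex.single_obj_d, zero_comp]
  choose one hone using h.extend_zero (hI 1) (zero ≫ I.d 0 1) (by
    rw [← Category.assoc, hzero, Category.assoc]
    exact (congrArg (f ≫ ·) hε).trans comp_zero)
  have step : ∀ (n : ℕ) (p : Σ' (f : M'.X n ⟶ I.X n) (f' : M'.X (n + 1) ⟶ I.X (n + 1)),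
      f ≫ I.d n (n + 1) = M'.d n (n + 1) ≫ f'),
      ∃ f'', M'.d (n + 1) (n + 2) ≫ f'' = p.2.1 ≫ I.d (n + 1) (n + 2) := fun n p =>
    h.extend_succ (hI (n + 2)) n _ (by
      rw [← Category.assoc, ← p.2.2, Category.assoc, I.d_comp_d, comp_zero])
  refine ⟨CochainComplex.mkHom M' I zero one hone.symm fun n p =>
    ⟨(step n p).choose, (step n p).choose_spec.symm⟩, ?_⟩
  refine HomologicalComplex.from_single_hom_ext ?_
  rw [HomologicalComplex.comp_f, HomologicalComplex.comp_f, CochainComplex.mkHom_f_0,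
    CochainComplex.single₀_map_f_zero]
  exact hzero

theorem exists_cohomotopy {M N : ModuleCat.{u} R} (f : M ⟶ N)
    (M' I : CochainComplex (ModuleCat.{u} R) ℕ)
    (η : (CochainComplex.single₀ (ModuleCat.{u} R)).obj M ⟶ M')
    (ε : (CochainComplex.single₀ (ModuleCat.{u} R)).obj N ⟶ I)
    (h : UExactCochain M' (M := M) (η.f 0).hom) (hI : ∀ n, PInj R (I.X n))
    (α β : M' ⟶ I) (hα : η ≫ α = (CochainComplex.single₀ (ModuleCat.{u} R)).map f ≫ ε)
    (hβ : η ≫ β = (CochainComplex.single₀ (ModuleCat.{u} R)).map f ≫ ε) :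
    Nonempty (Homotopy α β) := by
  let e := α - β
  have he : η ≫ e = 0 := by rw [Preadditive.comp_sub, hα, hβ, sub_self]
  have he0 : η.f 0 ≫ e.f 0 = 0 := by
    rw [← HomologicalComplex.comp_f, he, HomologicalComplex.zero_f]
  choose zero hzero using h.extend_zero (hI 0) (e.f 0) he0
  choose one hone using h.extend_succ (hI 1) 0 (e.f 1 - zero ≫ I.d 0 1) (by
    rw [Preadditive.comp_sub, ← Category.assoc, hzero, e.comm 0 1, sub_self])
  have step : ∀ (n : ℕ) (p : Σ' (f : M'.X (n + 1) ⟶ I.X n) (f' : M'.X (n + 2) ⟶ I.X (n + 1)),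
      e.f (n + 1) = f ≫ I.d n (n + 1) + M'.d (n + 1) (n + 2) ≫ f'),
      ∃ f'', M'.d (n + 2) (n + 3) ≫ f'' = e.f (n + 2) - p.2.1 ≫ I.d (n + 1) (n + 2) := fun n p =>
    h.extend_succ (hI (n + 2)) (n + 1) _ (by
      obtain ⟨f₀, f₁, hp⟩ := p
      dsimp only
      rw [Preadditive.comp_sub, ← e.comm, hp, Preadditive.add_comp, Category.assoc, I.d_comp_d,
        comp_zero, zero_add, Category.assoc, sub_self])
  exact ⟨Homotopy.equivSubZero.symm (Homotopy.mkCoinductive e zero hzero.symm one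
    (by rw [hone, add_sub_cancel]) fun n p =>
      ⟨(step n p).choose, by rw [(step n p).choose_spec, add_sub_cancel]⟩)⟩

section Construct

variable (R) (M : ModuleCat.{u} R)

/-- The iterated syzygies of the pure cover. -/
noncomputable def syz : ℕ → ModuleCat.{u} R
  | 0 => M
  | n + 1 => ModuleCat.of R (LinearMap.ker (coverMap R (syz n)))

/-- The terms of the pure projective resolution. -/
noncomputable abbrev resX (n : ℕ) : ModuleCat.{u} R :=
  ModuleCat.of R (Π₀ i : CoverIndex R (syz R M n), CoverObj R (syz R M n) i)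

/-- The covering maps of the resolution. -/
noncomputable def resCover (n : ℕ) : resX R M n →ₗ[R] syz R M n := coverMap R (syz R M n)

/-- The inclusions of the syzygies. -/
noncomputable def resIncl (n : ℕ) : syz R M (n + 1) →ₗ[R] resX R M n :=
  (LinearMap.ker (coverMap R (syz R M n))).subtype

theorem resIncl_exact (n : ℕ) : Function.Exact (resIncl R M n) (resCover R M n) :=
  LinearMap.exact_subtype_ker_map _

theorem exists_pureProjective_resolution :
    ∃ (P : ChainComplex (ModuleCat.{u} R) ℕ)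
      (π : P ⟶ (ChainComplex.single₀ (ModuleCat.{u} R)).obj M),
      (∀ n, PProj R (P.X n)) ∧ UExactChain P (M := M) (π.f 0).hom := by
  let d : ∀ n, resX R M (n + 1) ⟶ resX R M n := fun n =>
    ModuleCat.ofHom (resIncl R M n ∘ₗ resCover R M (n + 1))
  have sq : ∀ n, d (n + 1) ≫ d n = 0 := fun n => by
    refine ModuleCat.hom_ext (LinearMap.ext fun x => ?_)
    exact (congrArg (resIncl R M n) ((resIncl_exact R M (n + 1)).apply_apply_eq_zero _)).trans
      (map_zero _)
  let P := ChainComplex.of (resX R M) d sq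
  let π₀ : P.X 0 ⟶ M := ModuleCat.ofHom (resCover R M 0)
  have hd : ∀ n, P.d (n + 1) n = d n := fun n => ChainComplex.of_d (resX R M) d n
  have w : P.d 1 0 ≫ π₀ = 0 := by
    rw [hd 0]
    refine ModuleCat.hom_ext (LinearMap.ext fun x => ?_)
    exact (resIncl_exact R M 0).apply_apply_eq_zero _
  let π := (ChainComplex.toSingle₀Equiv P M).symm ⟨π₀, w⟩
  refine ⟨P, π, fun n => pProj_dfinsupp _ fun i => pProj_of_finitePresentation _, ?_⟩
  have hπ : π.f 0 = π₀ := ChainComplex.toSingle₀Equiv_symm_apply_f_zero _ _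
  intro Q _ _
  have ex : ∀ n, Function.Exact ((resIncl R M n).rTensor Q) ((resCover R M n).rTensor Q) := fun n =>
    rTensor_exact Q (resIncl_exact R M n) (coverMap_surjective R _)
  have surj : ∀ n, Function.Surjective ((resCover R M n).rTensor Q) := fun n =>
    LinearMap.rTensor_surjective Q (coverMap_surjective R _)
  have inj : ∀ n, Function.Injective ((resIncl R M n).rTensor Q) := fun n => coverMap_pure R _ Q
  have e0 : ∀ n, ((P.d (n + 1) n).hom.rTensor Q : _ → _) =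
      (resIncl R M n).rTensor Q ∘ (resCover R M (n + 1)).rTensor Q := fun n => by
    rw [hd n, ← LinearMap.coe_comp, ← LinearMap.rTensor_comp]
    rfl
  refine ⟨?_, ?_, fun n => ?_⟩
  · rw [hπ, e0 0]
    exact (surj 1).comp_exact_iff_exact.mpr (ex 0)
  · rw [hπ]
    exact surj 0
  · rw [e0 n, e0 (n + 1)]
    exact (inj n).comp_exact_iff_exact.mpr ((surj (n + 2)).comp_exact_iff_exact.mpr (ex (n + 1)))

/-- The iterated cokernels of the double dual embedding. -/
noncomputable def cosyz : ℕ → ModuleCat.{u} R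
  | 0 => M
  | n + 1 => ModuleCat.of R
      (CharacterModule (CharacterModule (cosyz n)) ⧸ LinearMap.range (PureExt.charEval R (cosyz n)))

/-- The terms of the pure injective resolution. -/
noncomputable abbrev coresX (n : ℕ) : ModuleCat.{u} R :=
  ModuleCat.of R (CharacterModule (CharacterModule (cosyz R M n)))

/-- The coaugmentations. -/
noncomputable def coresIncl (n : ℕ) : cosyz R M n →ₗ[R] coresX R M n :=
  PureExt.charEval R (cosyz R M n)

/-- The quotient maps. -/
noncomputable def coresProj (n : ℕ) : coresX R M n →ₗ[R] cosyz R M (n + 1) :=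
  (LinearMap.range (PureExt.charEval R (cosyz R M n))).mkQ

theorem coresIncl_exact (n : ℕ) : Function.Exact (coresIncl R M n) (coresProj R M n) :=
  LinearMap.exact_map_mkQ_range _

theorem coresProj_surjective (n : ℕ) : Function.Surjective (coresProj R M n) :=
  Submodule.mkQ_surjective _

theorem exists_pureInjective_resolution :
    ∃ (I : CochainComplex (ModuleCat.{u} R) ℕ)
      (η : (CochainComplex.single₀ (ModuleCat.{u} R)).obj M ⟶ I),
      (∀ n, PInj R (I.X n)) ∧ UExactCochain I (M := M) (η.f 0).hom := by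
  let d : ∀ n, coresX R M n ⟶ coresX R M (n + 1) := fun n =>
    ModuleCat.ofHom (coresIncl R M (n + 1) ∘ₗ coresProj R M n)
  have sq : ∀ n, d n ≫ d (n + 1) = 0 := fun n => by
    refine ModuleCat.hom_ext (LinearMap.ext fun x => ?_)
    exact congrArg (fun z => coresIncl R M (n + 1 + 1) z)
      ((coresIncl_exact R M (n + 1)).apply_apply_eq_zero _) |>.trans (map_zero _)
  let I := CochainComplex.of (coresX R M) d sq
  let η₀ : M ⟶ I.X 0 := ModuleCat.ofHom (coresIncl R M 0)
  have hd : ∀ n, I.d n (n + 1) = d n := fun n => CochainComplex.of_d (coresX R M) d n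
  have w : η₀ ≫ I.d 0 1 = 0 := by
    rw [hd 0]
    refine ModuleCat.hom_ext (LinearMap.ext fun x => ?_)
    exact (congrArg (coresIncl R M 1) ((coresIncl_exact R M 0).apply_apply_eq_zero _)).trans
      (map_zero _)
  let η := (CochainComplex.fromSingle₀Equiv I M).symm ⟨η₀, w⟩
  refine ⟨I, η, fun n => pInj_characterModule _, ?_⟩
  have hη : η.f 0 = η₀ := CochainComplex.fromSingle₀Equiv_symm_apply_f_zero _ _
  intro Q _ _
  have ex : ∀ n, Function.Exact ((coresIncl R M n).rTensor Q) ((coresProj R M n).rTensor Q) :=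
    fun n => rTensor_exact Q (coresIncl_exact R M n) (coresProj_surjective R M n)
  have surj : ∀ n, Function.Surjective ((coresProj R M n).rTensor Q) := fun n =>
    LinearMap.rTensor_surjective Q (coresProj_surjective R M n)
  have inj : ∀ n, Function.Injective ((coresIncl R M n).rTensor Q) := fun n =>
    universallyInjective_charEval _ Q
  have e0 : ∀ n, ((I.d n (n + 1)).hom.rTensor Q : _ → _) =
      (coresIncl R M (n + 1)).rTensor Q ∘ (coresProj R M n).rTensor Q := fun n => by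
    rw [hd n, ← LinearMap.coe_comp, ← LinearMap.rTensor_comp]
    rfl
  refine ⟨?_, ?_, fun n => ?_⟩
  · rw [hη, e0 0]
    exact (inj 1).comp_exact_iff_exact.mpr (ex 0)
  · rw [hη]
    exact inj 0
  · rw [e0 n, e0 (n + 1)]
    exact (inj (n + 2)).comp_exact_iff_exact.mpr ((surj n).comp_exact_iff_exact.mpr (ex (n + 1)))

end Construct

end Groth.Agent.H16Derived.PureExt
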